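import Groth.Agent.ExtReesLib.Basic
import Mathlib.RingTheory.UniqueFactorizationDomain.Kaplansky
import Mathlib.RingTheory.Polynomial.UniqueFactorization

/-!
# Nagata's criterion and factoriality of the extended Rees algebra
-/

set_option autoImplicit false

universe u

open Polynomial LaurentPolynomial

namespace Groth.Agent.ExtReesLib

theorem ufd_of_isLocalization {B : Type u} [CommRing B] [IsDomain B] [UniqueFactorizationMonoid B]
    (M : Submonoid B) (hM : M ≤ nonZeroDivisors B) (C : Type u) [CommRing C] [IsDomain C] [Algebra B C]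
    [IsLocalization M C] : UniqueFactorizationMonoid C := by
  rw [UniqueFactorizationMonoid.iff_exists_prime_mem_of_isPrime]
  intro I hI hIp
  have hinj : Function.Injective (algebraMap B C) := IsLocalization.injective C hM
  have hQ := (IsLocalization.isPrime_iff_isPrime_disjoint M C I).1 hIp
  set Q := I.comap (algebraMap B C)
  have hQ0 : Q ≠ ⊥ := fun h0 => hI (by
    rw [← IsLocalization.map_comap M C I]
    change Q.map _ = ⊥
    rw [h0, Ideal.map_bot])
  obtain ⟨π, hπQ, hπ⟩ := hQ.1.exists_mem_prime_of_ne_bot hQ0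
  refine ⟨_, hπQ, ?_⟩
  have hne : algebraMap B C π ≠ 0 := fun h0 => hπ.ne_zero (hinj (h0.trans (map_zero _).symm))
  rw [← Ideal.span_singleton_prime hne, ← Set.image_singleton, ← Ideal.map_span]
  refine IsLocalization.isPrime_of_isPrime_disjoint M _ _ ((Ideal.span_singleton_prime hπ.ne_zero).2 hπ) ?_
  exact hQ.2.mono_right (SetLike.coe_subset_coe.2 ((Ideal.span_singleton_le_iff_mem _).2 hπQ))

/-- Nagata's criterion. -/
theorem nagata {R : Type u} [CommRing R] [IsDomain R] [IsNoetherianRing R] {u : R} (hu : Prime u)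
    (C : Type u) [CommRing C] [IsDomain C] [Algebra R C] [IsLocalization.Away u C] [UniqueFactorizationMonoid C] :
    UniqueFactorizationMonoid R := by
  rw [UniqueFactorizationMonoid.iff_exists_prime_mem_of_isPrime]
  intro P hP hPp
  by_cases huP : u ∈ P
  · exact ⟨u, huP, hu⟩
  have hle : Submonoid.powers u ≤ nonZeroDivisors R := powers_le_nonZeroDivisors_of_noZeroDivisors hu.ne_zero
  have hinj : Function.Injective (algebraMap R C) := IsLocalization.injective C hle
  have hd : Disjoint (Submonoid.powers u : Set R) (P : Set R) :=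
    Set.disjoint_left.2 fun a ⟨n, hn⟩ hb => huP (hPp.mem_of_pow_mem n
      (show u ^ n ∈ P by rw [show u ^ n = a from hn]; exact hb))
  have hQ := IsLocalization.isPrime_of_isPrime_disjoint (Submonoid.powers u) C P hPp hd
  have hQc := IsLocalization.under_map_of_isPrime_disjoint (Submonoid.powers u) C hPp hd
  obtain ⟨π, hπQ, hπ⟩ := hQ.exists_mem_prime_of_ne_bot (I := P.map (algebraMap R C)) (fun h0 => hP (by
    rw [Ideal.map_eq_bot_iff_of_injective hinj] at h0; exact h0))
  obtain ⟨⟨x, s⟩, hx⟩ := IsLocalization.surj (Submonoid.powers u) π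
  have hunit : ∀ n : ℕ, IsUnit (algebraMap R C (u ^ n)) := fun n =>
    IsLocalization.map_units C (⟨u ^ n, n, rfl⟩ : Submonoid.powers u)
  have hx0 : x ≠ 0 := by
    rintro rfl
    simp only [map_zero, mul_eq_zero] at hx
    exact hx.elim hπ.ne_zero (IsLocalization.map_units C s).ne_zero
  obtain ⟨j, y, hy, hxy⟩ := WfDvdMonoid.max_power_factor hx0 hu.irreducible
  simp only at hx
  have hass : Associated π (algebraMap R C y) := by
    rw [hxy, map_mul] at hx
    refine ⟨(IsLocalization.map_units C s).unit * (hunit j).unit⁻¹, ?_⟩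
    rw [Units.val_mul, IsUnit.unit_spec, ← mul_assoc, hx, mul_comm (algebraMap R C (u ^ j)), mul_assoc,
      IsUnit.mul_val_inv, mul_one]
  have hyP : y ∈ P := by
    rw [← hQc]
    exact (Ideal.mem_of_dvd _ hass.dvd hπQ : algebraMap R C y ∈ P.map (algebraMap R C))
  have hyπ : Prime (algebraMap R C y) := hass.prime hπ
  refine ⟨y, hyP, fun h => hyπ.ne_zero (by rw [h, map_zero]), fun h => hyπ.not_unit (h.map _), ?_⟩
  have key : ∀ a, algebraMap R C y ∣ algebraMap R C a → y ∣ a := by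
    rintro a ⟨c, hc⟩
    obtain ⟨⟨r, t, m, rfl⟩, hr⟩ := IsLocalization.surj (Submonoid.powers u) c
    simp only at hr
    have h1 : a * u ^ m = y * r := hinj (by rw [map_mul, map_mul, hc, mul_assoc, hr])
    obtain ⟨r', rfl⟩ : u ^ m ∣ r := hu.pow_dvd_of_dvd_mul_left m hy ⟨a, by rw [← h1, mul_comm]⟩
    exact ⟨r', mul_left_cancel₀ (pow_ne_zero m hu.ne_zero) (by linear_combination h1)⟩
  intro a b hab
  exact (hyπ.dvd_or_dvd (by rw [← map_mul]; exact map_dvd _ hab)).imp (key a) (key b)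

variable {A : Type u} [CommRing A] [IsDomain A]

theorem irreducible_C {a : A} (ha : Irreducible a) : Irreducible (Polynomial.C a) := by
  refine ⟨fun h => ha.not_isUnit (Polynomial.isUnit_C.mp h), fun f g h => ?_⟩
  have hd := congrArg Polynomial.natDegree h
  have hne : f ≠ 0 ∧ g ≠ 0 := by
    rw [← mul_ne_zero_iff, ← h, Ne, Polynomial.C_eq_zero]; exact ha.ne_zero
  rw [Polynomial.natDegree_C, Polynomial.natDegree_mul hne.1 hne.2] at hd
  obtain ⟨b, rfl⟩ := Polynomial.natDegree_eq_zero.mp (show f.natDegree = 0 by omega)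
  obtain ⟨c, rfl⟩ := Polynomial.natDegree_eq_zero.mp (show g.natDegree = 0 by omega)
  rw [← map_mul, Polynomial.C_inj] at h
  exact (ha.isUnit_or_isUnit h).imp Polynomial.isUnit_C.mpr Polynomial.isUnit_C.mpr

theorem ufd_of_laurent [IsNoetherianRing A] [UniqueFactorizationMonoid A[T;T⁻¹]] : UniqueFactorizationMonoid A := by
  haveI : UniqueFactorizationMonoid A[X] := nagata (u := (Polynomial.X : A[X])) Polynomial.prime_X A[T;T⁻¹]
  exact
    { irreducible_iff_prime := fun {a} =>
        ⟨fun h => Polynomial.prime_C_iff.mp (UniqueFactorizationMonoid.irreducible_iff_prime.mp (irreducible_C h)),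
          fun h => h.irreducible⟩
      toIsWellFounded := (inferInstance : WfDvdMonoid A) }

theorem laurent_ufd [UniqueFactorizationMonoid A] : UniqueFactorizationMonoid A[T;T⁻¹] :=
  ufd_of_isLocalization (Submonoid.powers (Polynomial.X : A[X]))
    (powers_le_nonZeroDivisors_of_noZeroDivisors Polynomial.X_ne_zero) A[T;T⁻¹]

theorem exists_monomial_of_isUnit {x : A[T;T⁻¹]} (hx : IsUnit x) :
    ∃ (r : A) (i : ℤ), IsUnit r ∧ x = LaurentPolynomial.C r * T i := by
  obtain ⟨y, hxy⟩ := isUnit_iff_exists_inv.mp hx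
  obtain ⟨n, f, hf⟩ := exists_T_pow x
  obtain ⟨m, g, hg⟩ := exists_T_pow y
  have h : f * g = Polynomial.X ^ (n + m) := by
    refine toLaurent_injective ?_
    rw [map_mul, hf, hg, toLaurent_X_pow, Nat.cast_add, mul_mul_mul_comm, hxy, one_mul, ← T_add]
  obtain ⟨k, -, hk⟩ := (dvd_prime_pow Polynomial.prime_X _).mp (Dvd.intro g h)
  obtain ⟨v, hv⟩ := hk.symm
  obtain ⟨r, hr, hrv⟩ := Polynomial.isUnit_iff.mp v.isUnit
  refine ⟨r, (k : ℤ) - n, hr, ?_⟩
  have e : x * T (n : ℤ) = LaurentPolynomial.C r * T (k : ℤ) := by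
    rw [← hf, ← hv, ← hrv, map_mul, toLaurent_X_pow, toLaurent_C, mul_comm]
  calc x = x * T (n : ℤ) * T (-(n : ℤ)) := by rw [mul_T_assoc, add_neg_cancel, T_zero, mul_one]
    _ = _ := by rw [e, mul_T_assoc, sub_eq_add_neg]

variable (𝓕 : FiltBl.IdealFiltration A)

theorem u_ne_zero : 𝓕.u ≠ 0 := fun h => (isUnit_T (R := A) (-1)).ne_zero (congrArg Subtype.val h)

theorem irreducible_u (hsep : ⨅ n, 𝓕.F n = ⊥) : Irreducible 𝓕.u := by
  have h1 := F_one_ne_top 𝓕 hsep
  refine ⟨fun hu => ?_, fun x y hxy => ?_⟩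
  · obtain ⟨v, hv⟩ := isUnit_iff_exists_inv.mp hu
    have hmem : (1 : A) ∈ 𝓕.F 1 := by
      have h := ((mem_span_u_iff 𝓕 (1 : 𝓕.extRees)).mp (Ideal.mem_span_singleton'.mpr ⟨v, by rw [mul_comm]; exact hv⟩)) 0
      have h' : ((1 : 𝓕.extRees) : A[T;T⁻¹]).coeff ((0 : ℕ) : ℤ) = 1 := by
        show (1 : A[T;T⁻¹]).coeff 0 = 1
        rw [← T_zero, T_apply, if_pos rfl]
      rwa [h'] at h
    exact h1 ((Ideal.eq_top_iff_one _).mpr hmem)
  have he : (x : A[T;T⁻¹]) * (y : A[T;T⁻¹]) = T (-1) := (congrArg Subtype.val hxy).symm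
  have hu : IsUnit ((x : A[T;T⁻¹]) * (y : A[T;T⁻¹])) := by rw [he]; exact isUnit_T _
  obtain ⟨r, i, hr, hxr⟩ := exists_monomial_of_isUnit (isUnit_of_mul_isUnit_left hu)
  obtain ⟨s, j, hs, hys⟩ := exists_monomial_of_isUnit (isUnit_of_mul_isUnit_right hu)
  have neg : ∀ (z : 𝓕.extRees) (r : A) (i : ℤ), IsUnit r → (z : A[T;T⁻¹]) = LaurentPolynomial.C r * T i → i ≤ 0 := by
    intro z r i hr hz
    by_contra hi
    have := z.2 i
    rw [hz, coeff_C_mul_T, if_pos rfl] at this
    exact h1 (Ideal.eq_top_of_isUnit_mem _ (𝓕.antitone (show 1 ≤ i.toNat by omega) this) hr)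
  have unit : ∀ (z : 𝓕.extRees) (r : A), IsUnit r → (z : A[T;T⁻¹]) = LaurentPolynomial.C r * T 0 → IsUnit z := by
    intro z r hr hz
    have : z = algebraMap A 𝓕.extRees r := Subtype.ext (by rw [hz, T_zero, mul_one]; rfl)
    rw [this]
    exact hr.map _
  have hij : i + j = -1 := by
    by_contra hne
    have h2 := congrArg (fun z : A[T;T⁻¹] => z.coeff (i + j)) he
    rw [hxr, hys, mul_mul_mul_comm, ← map_mul, ← T_add] at h2
    simp only [coeff_C_mul_T, if_true, T_apply, if_neg (Ne.symm hne)] at h2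
    exact (hr.mul hs).ne_zero h2
  have hi := neg x r i hr hxr
  have hj := neg y s j hs hys
  rcases (show i = 0 ∨ j = 0 by omega) with rfl | rfl
  · exact Or.inl (unit x r hr hxr)
  · exact Or.inr (unit y s hs hys)

theorem ufd_iff [IsNoetherianRing A] [IsNoetherianRing 𝓕.extRees] [IsDomain 𝓕.extRees]
    (hsep : ⨅ n, 𝓕.F n = ⊥) :
    UniqueFactorizationMonoid 𝓕.extRees ↔ (UniqueFactorizationMonoid A ∧ (Ideal.span {𝓕.u}).IsPrime) := by
  constructor
  · intro h
    refine ⟨?_, (Ideal.span_singleton_prime (u_ne_zero 𝓕)).mpr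
      (UniqueFactorizationMonoid.irreducible_iff_prime.mp (irreducible_u 𝓕 hsep))⟩
    haveI : UniqueFactorizationMonoid A[T;T⁻¹] :=
      ufd_of_isLocalization (Submonoid.powers 𝓕.u)
        (powers_le_nonZeroDivisors_of_noZeroDivisors (u_ne_zero 𝓕)) A[T;T⁻¹]
    exact ufd_of_laurent
  · rintro ⟨hA, hu⟩
    haveI : UniqueFactorizationMonoid A[T;T⁻¹] := laurent_ufd
    exact nagata ((Ideal.span_singleton_prime (u_ne_zero 𝓕)).mp hu) A[T;T⁻¹]

end Groth.Agent.ExtReesLib
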