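import Groth.Prelude.Def_CAlg
import Groth.Agent.LC.GorRingRows
import Groth.Agent.LC.DepthLoc
import Groth.Agent.FlatLoc6.RegCM
import Groth.Agent.FlatLoc6.FiberRing
import Groth.Agent.FlatLoc6.FiberSelf
import Groth.Agent.Alg6.LocLoc
import Groth.Agent.Alg6.AssDepth
import Groth.Agent.SkDesc.Basic
import Mathlib.RingTheory.PolynomialAlgebra

/-!
# Depth, height and the Gorenstein property of local rings: localisations, cuts by a regular element
and polynomial rings in one variable
-/

set_option autoImplicit false

universe u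

open IsLocalRing
open scoped Pointwise

namespace Groth.Agent.ExtReesLib

local notation "dpt" P => LocCoh.depth (Localization.AtPrime P) (Localization.AtPrime P)

variable {R : Type u} [CommRing R]

theorem isCM_atPrime_iff [IsNoetherianRing R] (P : Ideal R) [P.IsPrime] :
    LocCoh.IsCohenMacaulayLocalRing (Localization.AtPrime P) ↔ P.height = dpt P := by
  haveI : IsNoetherianRing (Localization.AtPrime P) := IsLocalization.isNoetherianRing P.primeCompl _ inferInstance
  have e : Module.supportDim (Localization.AtPrime P) (Localization.AtPrime P) = (P.height : WithBot ℕ∞) := by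
    rw [Module.supportDim_self_eq_ringKrullDim, IsLocalization.AtPrime.ringKrullDim_eq_height P]
  exact ⟨fun h => WithBot.coe_inj.mp (e.symm.trans h.supportDim_eq_depth),
    fun h => { supportDim_eq_depth := e.trans (congrArg _ h) }⟩

theorem invariants_of_equiv {S : Type u} [CommRing S] [IsNoetherianRing R] [IsNoetherianRing S]
    (P : Ideal R) [P.IsPrime] (Q : Ideal S) [Q.IsPrime] (e : Localization.AtPrime P ≃+* Localization.AtPrime Q) :
    ((dpt P) = dpt Q) ∧ P.height = Q.height ∧
      (LocCoh.IsGorensteinLocalRing (Localization.AtPrime P) ↔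
        LocCoh.IsGorensteinLocalRing (Localization.AtPrime Q)) := by
  haveI : IsNoetherianRing (Localization.AtPrime P) := IsLocalization.isNoetherianRing P.primeCompl _ inferInstance
  haveI : IsNoetherianRing (Localization.AtPrime Q) := IsLocalization.isNoetherianRing Q.primeCompl _ inferInstance
  refine ⟨Alg6.depth_eq_of_semilinear e.toRingHom e.surjective e.toAddEquiv fun r x => e.map_mul r x, ?_,
    fun h => LC.gorenstein_of_ringEquiv e, fun h => LC.gorenstein_of_ringEquiv e.symm⟩
  rw [← WithBot.coe_inj, ← IsLocalization.AtPrime.ringKrullDim_eq_height P (Localization.AtPrime P),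
    ← IsLocalization.AtPrime.ringKrullDim_eq_height Q (Localization.AtPrime Q)]
  exact ringKrullDim_eq_of_ringEquiv e

/-- A prime of a localisation has the local ring of its preimage. -/
theorem exists_equiv_comap {B C : Type u} [CommRing B] [CommRing C] [Algebra B C] (M : Submonoid B)
    [IsLocalization M C] (Q : Ideal C) [Q.IsPrime] :
    Nonempty (Localization.AtPrime Q ≃+* Localization.AtPrime (Q.comap (algebraMap B C))) := by
  haveI : IsLocalization.AtPrime (Localization.AtPrime Q) (Q.comap (algebraMap B C)) :=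
    IsLocalization.isLocalization_isLocalization_atPrime_isLocalization M (Localization.AtPrime Q) Q
  exact ⟨(IsLocalization.algEquiv (Q.comap (algebraMap B C)).primeCompl
    (Localization.AtPrime Q) (Localization.AtPrime (Q.comap (algebraMap B C)))).toRingEquiv⟩

/-- The Cohen–Macaulay and Gorenstein properties pass to smaller primes. -/
theorem of_le [IsNoetherianRing R] (P m : Ideal R) [P.IsPrime] [m.IsPrime] (h : P ≤ m) :
    (LocCoh.IsCohenMacaulayLocalRing (Localization.AtPrime m) →
      LocCoh.IsCohenMacaulayLocalRing (Localization.AtPrime P)) ∧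
    (LocCoh.IsGorensteinLocalRing (Localization.AtPrime m) →
      LocCoh.IsGorensteinLocalRing (Localization.AtPrime P)) := by
  let L := Localization.AtPrime m
  haveI : IsNoetherianRing L := IsLocalization.isNoetherianRing m.primeCompl _ inferInstance
  have hdisj : Disjoint (m.primeCompl : Set R) (P : Set R) :=
    Set.disjoint_left.2 fun a ha hb => ha (h hb)
  obtain ⟨Q, hQ, hQP⟩ : ∃ Q : Ideal L, Q.IsPrime ∧ Q.comap (algebraMap R L) = P :=
    ⟨_, IsLocalization.isPrime_of_isPrime_disjoint m.primeCompl L P inferInstance hdisj,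
      IsLocalization.comap_map_of_isPrime_disjoint m.primeCompl L inferInstance hdisj⟩
  subst hQP
  obtain ⟨e⟩ := exists_equiv_comap m.primeCompl Q
  obtain ⟨h1, h2, h3⟩ := invariants_of_equiv Q _ e
  refine ⟨fun hm => ?_, fun hm => ?_⟩
  · rw [isCM_atPrime_iff, ← h1, ← h2]
    have hmod : LocCoh.IsCohenMacaulayModule L L := hm.supportDim_eq_depth
    have hQs : (⟨Q, hQ⟩ : PrimeSpectrum L) ∈ Module.support L L := by
      rw [Module.mem_support_iff]
      exact (LC.selfLoc Q.primeCompl).toEquiv.nontrivial
    have := LC.isCM_localized (M := L) hmod hQs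
    rw [LocCoh.IsCohenMacaulayModule, FlatLoc6.supportDim_self_atPrime, FlatLoc6.depth_self_atPrime] at this
    exact WithBot.coe_inj.mp this
  · rw [← h3]
    exact LC.gorenstein_localized Q

variable {G : Type u} [CommRing G]

/-- The local ring of a quotient by a nonzerodivisor at a prime containing it. -/
theorem cut [IsNoetherianRing R] (φ : R →+* G) (hφ : Function.Surjective φ) {f : R}
    (hf : f ∈ nonZeroDivisors R) (hker : RingHom.ker φ = Ideal.span {f}) (p : Ideal G) [p.IsPrime] :
    ((dpt (p.comap φ)) = (dpt p) + 1) ∧ (p.comap φ).height = p.height + 1 ∧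
      (LocCoh.IsGorensteinLocalRing (Localization.AtPrime (p.comap φ)) ↔
        LocCoh.IsGorensteinLocalRing (Localization.AtPrime p)) := by
  haveI : IsNoetherianRing G := isNoetherianRing_of_surjective R G φ hφ
  let P := p.comap φ
  let L := Localization.AtPrime P
  let T := Localization.AtPrime p
  haveI : IsNoetherianRing L := IsLocalization.isNoetherianRing P.primeCompl _ inferInstance
  haveI : IsNoetherianRing T := IsLocalization.isNoetherianRing p.primeCompl _ inferInstance
  let σ : L →+* T := Localization.localRingHom P p φ rfl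
  let x : L := algebraMap R L f
  have hσ : Function.Surjective σ := by
    intro z
    obtain ⟨c, ⟨t, ht⟩, rfl⟩ := IsLocalization.exists_mk'_eq p.primeCompl z
    obtain ⟨c', rfl⟩ := hφ c
    obtain ⟨t', rfl⟩ := hφ t
    exact ⟨IsLocalization.mk' _ c' (⟨t', ht⟩ : P.primeCompl), by
      exact Localization.localRingHom_mk' P p φ rfl c' ⟨t', ht⟩⟩
  have hfP : f ∈ P := by
    show φ f ∈ p
    rw [show φ f = 0 from (RingHom.mem_ker).mp (hker ▸ Ideal.mem_span_singleton_self f)]
    exact p.zero_mem
  have hker' : RingHom.ker σ = Ideal.span {x} := by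
    refine le_antisymm (fun z hz => ?_) ?_
    · obtain ⟨a, s, rfl⟩ := IsLocalization.exists_mk'_eq P.primeCompl z
      rw [RingHom.mem_ker, Localization.localRingHom_mk', IsLocalization.mk'_eq_zero_iff] at hz
      obtain ⟨⟨w, hw⟩, hw0⟩ := hz
      obtain ⟨w', rfl⟩ := hφ w
      have hmem : w' * a ∈ Ideal.span {f} := by rw [← hker, RingHom.mem_ker, map_mul]; exact hw0
      obtain ⟨c, hc⟩ := Ideal.mem_span_singleton'.mp hmem
      have hz' : IsLocalization.mk' L a s = x * IsLocalization.mk' L c (⟨w', hw⟩ * s) := by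
        show _ = algebraMap R L f * _
        rw [IsLocalization.mul_mk'_eq_mk'_of_mul, IsLocalization.mk'_eq_iff_eq]
        congr 1
        simp only [Submonoid.coe_mul]
        linear_combination -(s : R) * hc
      rw [hz']
      exact Ideal.mul_mem_right _ _ (Ideal.mem_span_singleton_self x)
    · rw [Ideal.span_le, Set.singleton_subset_iff, SetLike.mem_coe, RingHom.mem_ker]
      show σ (algebraMap R L f) = 0
      rw [Localization.localRingHom_to_map,
        show φ f = 0 from (RingHom.mem_ker).mp (hker ▸ Ideal.mem_span_singleton_self f), map_zero]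
  have hx : x ∈ maximalIdeal L := (IsLocalization.AtPrime.to_map_mem_maximal_iff L P f).mpr hfP
  have hreg : IsSMulRegular L x := by
    refine isSMulRegular_iff_right_eq_zero_of_smul.mpr fun z hz => ?_
    obtain ⟨a, s, rfl⟩ := IsLocalization.exists_mk'_eq P.primeCompl z
    rw [smul_eq_mul, show x = algebraMap R L f from rfl, IsLocalization.mul_mk'_eq_mk'_of_mul,
      IsLocalization.mk'_eq_zero_iff] at hz
    obtain ⟨w, hw⟩ := hz
    rw [IsLocalization.mk'_eq_zero_iff]
    exact ⟨w, (mul_right_mem_nonZeroDivisors_eq_zero_iff hf).mp (by rw [← hw]; ring)⟩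
  let e : (L ⧸ Ideal.span {x}) ≃+* T :=
    (Ideal.quotEquivOfEq hker'.symm).trans (RingHom.quotientKerEquivOfSurjective hσ)
  have hspan : Ideal.span {x} = x • (⊤ : Ideal L) := by simp [← Submodule.ideal_span_singleton_smul]
  refine ⟨?_, ?_, LC.gorenstein_iff_of_surjective σ hσ hx hreg hker'⟩
  · have h1 : LocCoh.idealDepth (maximalIdeal L) (QuotSMulTop x L) = LocCoh.depth T T := by
      refine Eq.trans (LC.idealDepth_congr _ (Submodule.quotEquivOfEq _ _ hspan.symm)) ?_
      exact Alg6.depth_eq_of_semilinear σ hσ e.toAddEquiv fun r z => by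
        obtain ⟨z, rfl⟩ := Ideal.Quotient.mk_surjective z
        exact map_mul σ r z
    show LocCoh.idealDepth (maximalIdeal L) L = LocCoh.depth T T + 1
    rw [← LC.idealDepth_quotSMulTop_add_one (maximalIdeal L) (M := L) hx hreg, h1]
  · have h2 := ringKrullDim_quotient_span_singleton_succ_eq_ringKrullDim hreg hx
    rw [ringKrullDim_eq_of_ringEquiv e, IsLocalization.AtPrime.ringKrullDim_eq_height p T,
      IsLocalization.AtPrime.ringKrullDim_eq_height P L, ← WithBot.coe_one, ← WithBot.coe_add,
      WithBot.coe_inj] at h2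
    exact h2.symm

section Polynomial

open Polynomial

variable {A : Type u} [CommRing A] [IsNoetherianRing A]

theorem fiber_isRegular (p : Ideal A) [p.IsPrime] :
    LocCoh.IsCohenMacaulayRing (p.Fiber A[X]) ∧ LocCoh.IsGorensteinRing (p.Fiber A[X]) :=
  ⟨FlatLoc6.isCM_of_ringEquiv (polyEquivTensor' A p.ResidueField).toRingEquiv
      (FlatLoc6.isCM_of_isRegularRing _),
    LC.gorensteinRing_of_ringEquiv (polyEquivTensor' A p.ResidueField).toRingEquiv
      (LC.gorensteinRing_of_isRegularRing _)⟩

/-- The local ring of `A[X]` at a prime, against that of `A` below it. -/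
theorem poly (Q : Ideal A[X]) [Q.IsPrime] :
    ∃ f : ℕ, ((dpt Q) = (dpt (Q.comap (algebraMap A A[X]))) + f) ∧
      Q.height = (Q.comap (algebraMap A A[X])).height + f ∧
      (Q = (Q.comap (algebraMap A A[X])).map (algebraMap A A[X]) → f = 0) := by
  set p := Q.comap (algebraMap A A[X]) with hp
  obtain ⟨h1, h2⟩ := FlatLoc6.formulas_self p Q rfl
  haveI := (fiber_isRegular p).1
  rw [FlatLoc6.fib_eq_of_fiber_isCM p Q rfl, ← WithBot.coe_add, WithBot.coe_inj] at h2
  have hne : Q.height ≠ ⊤ := Ideal.height_ne_top (Ideal.IsPrime.ne_top inferInstance)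
  obtain ⟨f, hf⟩ := ENat.ne_top_iff_exists.mp
    (fun hf : FlatLoc6.fibDepth A Q A[X] = ⊤ => hne (by rw [h2, hf, add_top]))
  rw [← hf] at h1 h2
  refine ⟨f, h1, h2, fun hQ => ?_⟩
  haveI : Q.LiesOver p := ⟨rfl⟩
  have hmin : Q ∈ (p.map (algebraMap A A[X])).minimalPrimes := by
    rw [← hQ]; exact ⟨⟨inferInstance, le_rfl⟩, fun _ h _ => h.2⟩
  have h3 := SkDesc.height_eq_of_minimal A[X] p Q hmin
  rw [h3] at h2
  obtain ⟨c, hc⟩ := ENat.ne_top_iff_exists.mp (Ideal.height_ne_top (I := p) (Ideal.IsPrime.ne_top inferInstance))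
  rw [← hc] at h2
  norm_cast at h2
  omega

theorem poly_gorenstein (Q : Ideal A[X]) [Q.IsPrime] :
    LocCoh.IsGorensteinLocalRing (Localization.AtPrime Q) ↔
      LocCoh.IsGorensteinLocalRing (Localization.AtPrime (Q.comap (algebraMap A A[X]))) := by
  rw [LC.atPrime_iff (A := A) Q]
  exact and_iff_left (LC.fibLoc_of_fiber Q fun p _ => (fiber_isRegular p).2)

end Polynomial

end Groth.Agent.ExtReesLib
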