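import Groth.Prelude.Def_W4c2filtblowupsingRees
import Groth.Agent.ExtReesLib.Local
import Mathlib.RingTheory.FiniteType
import Mathlib.RingTheory.Ideal.Quotient.Operations
import Mathlib.RingTheory.Spectrum.Prime.IsOpenComapC

/-!
# The extended Rees algebra of a filtration: `u`, the localisation `R'[1/u] = A[T;T⁻¹]`, and primes
-/

set_option autoImplicit false

universe u

open Polynomial LaurentPolynomial IsLocalRing

namespace Groth.Agent.ExtReesLib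

variable {A : Type u} [CommRing A]

theorem coeff_C_mul_T (a : A) (n i : ℤ) :
    (LaurentPolynomial.C a * T n : A[T;T⁻¹]).coeff i = if n = i then a else 0 := by
  classical
  rw [← single_eq_C_mul_T, AddMonoidAlgebra.coeff_single, Finsupp.single_apply]

theorem coeff_mul_C_mul_T (f : A[T;T⁻¹]) (a : A) (n i : ℤ) :
    (f * (LaurentPolynomial.C a * T n)).coeff i = f.coeff (i - n) * a := by
  rw [← single_eq_C_mul_T]
  exact AddMonoidAlgebra.coeff_mul_single_eq_coeff_mul (i - n) (fun m' _ => by omega)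

theorem coeff_mul_T (f : A[T;T⁻¹]) (n i : ℤ) : (f * T n).coeff i = f.coeff (i - n) := by
  have := coeff_mul_C_mul_T f 1 n i
  simpa using this

theorem exists_bound (f : A[T;T⁻¹]) : ∃ N : ℕ, ∀ i : ℤ, f.coeff i ≠ 0 → i.natAbs ≤ N :=
  ⟨f.coeff.support.sup Int.natAbs, fun _ hi => Finset.le_sup (Finsupp.mem_support_iff.mpr hi)⟩

theorem toLaurent_coeff (p : A[X]) (n : ℕ) : (toLaurent p).coeff (n : ℤ) = p.coeff n := by
  rw [LaurentPolynomial.coeff_toLaurent]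
  exact (Finsupp.mapDomain_apply Nat.castEmbedding.injective _ n).trans rfl

theorem toLaurent_coeff_neg (p : A[X]) {i : ℤ} (hi : i < 0) : (toLaurent p).coeff i = 0 := by
  rw [LaurentPolynomial.coeff_toLaurent]
  refine Finsupp.mapDomain_notin_range _ _ ?_
  rintro ⟨n, hn⟩
  simp only [Nat.castEmbedding_apply] at hn
  omega

variable (𝓕 : FiltBl.IdealFiltration A)

theorem mem_F_toNat_of_nonpos (a : A) {i : ℤ} (hi : i ≤ 0) : a ∈ 𝓕.F i.toNat := by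
  rw [Int.toNat_eq_zero.mpr hi, 𝓕.zero_eq]; exact Submodule.mem_top

/-- The monomial `a Tⁿ`. -/
noncomputable def mon (n : ℤ) (a : A) (h : a ∈ 𝓕.F n.toNat) : 𝓕.extRees :=
  ⟨LaurentPolynomial.C a * T n, fun i => by
    rw [coeff_C_mul_T]; split_ifs with hi
    · exact hi ▸ h
    · exact Ideal.zero_mem _⟩

@[simp] theorem coe_mon (n : ℤ) (a : A) (h : a ∈ 𝓕.F n.toNat) :
    (mon 𝓕 n a h : A[T;T⁻¹]) = LaurentPolynomial.C a * T n := rfl

theorem coe_u_pow (n : ℕ) : ((𝓕.u ^ n : 𝓕.extRees) : A[T;T⁻¹]) = T (-(n : ℤ)) := by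
  rw [Subalgebra.coe_pow]
  show T (-1) ^ n = _
  rw [T_pow, mul_neg_one]

theorem u_mem_nonZeroDivisors : 𝓕.u ∈ nonZeroDivisors 𝓕.extRees := by
  refine mem_nonZeroDivisors_iff_right.mpr fun x hx => ?_
  refine Subtype.ext ((isUnit_T (-1)).mul_left_eq_zero.mp ?_)
  exact congrArg Subtype.val hx

instance isLocalization_away : IsLocalization.Away 𝓕.u A[T;T⁻¹] where
  map_units := fun ⟨t, ht⟩ => by
    obtain ⟨n, rfl⟩ := ht
    show IsUnit ((𝓕.u ^ n : 𝓕.extRees) : A[T;T⁻¹])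
    rw [coe_u_pow]
    exact isUnit_T _
  surj f := by
    obtain ⟨N, hN⟩ := exists_bound f
    have hmem : f * T (-(N : ℤ)) ∈ 𝓕.extRees := fun i => by
      by_cases hi : i ≤ 0
      · exact mem_F_toNat_of_nonpos 𝓕 _ hi
      · rw [coeff_mul_T]
        by_cases h0 : f.coeff (i - -(N : ℤ)) = 0
        · rw [h0]; exact Ideal.zero_mem _
        · have := hN _ h0; omega
    refine ⟨(⟨f * T (-(N : ℤ)), hmem⟩, ⟨𝓕.u ^ N, N, rfl⟩), ?_⟩
    show f * ((𝓕.u ^ N : 𝓕.extRees) : A[T;T⁻¹]) = f * T (-(N : ℤ))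
    rw [coe_u_pow]
  exists_of_eq := fun {x y} h => ⟨1, by simp only [OneMemClass.coe_one, one_mul]; exact Subtype.ext h⟩

/-- The map `⊕_{n ≥ 0} Fⁿ Xⁿ → ⊕_{n ∈ ℤ} Fⁿ Tⁿ`. -/
noncomputable def ofRees : 𝓕.rees →ₐ[A] 𝓕.extRees :=
  (Polynomial.toLaurentAlg.comp 𝓕.rees.val).codRestrict 𝓕.extRees fun f i => by
    show (toLaurent (f : A[X])).coeff i ∈ _
    rcases lt_or_ge i 0 with hi | hi
    · rw [toLaurent_coeff_neg _ hi]; exact Ideal.zero_mem _
    · obtain ⟨n, rfl⟩ := Int.eq_ofNat_of_zero_le hi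
      rw [toLaurent_coeff]
      exact f.2 n

theorem coe_ofRees (f : 𝓕.rees) : (ofRees 𝓕 f : A[T;T⁻¹]) = toLaurent (f : A[X]) := rfl

theorem sum_mon (x : 𝓕.extRees) :
    x = ∑ i ∈ (x : A[T;T⁻¹]).coeff.support, mon 𝓕 i ((x : A[T;T⁻¹]).coeff i) (x.2 i) := by
  refine Subtype.ext ?_
  rw [AddSubmonoidClass.coe_finsetSum]
  simp only [coe_mon, ← single_eq_C_mul_T]
  exact (AddMonoidAlgebra.sum_coeff_single (x : A[T;T⁻¹])).symm

theorem finiteType (hfg : Algebra.FiniteType A 𝓕.rees) : Algebra.FiniteType A 𝓕.extRees := by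
  classical
  obtain ⟨s, hs⟩ := hfg.out
  refine ⟨⟨s.image (ofRees 𝓕) ∪ {𝓕.u}, ?_⟩⟩
  rw [eq_top_iff]
  intro x _
  rw [sum_mon 𝓕 x]
  refine Subalgebra.sum_mem _ fun i _ => ?_
  rcases lt_or_ge i 0 with hi | hi
  · obtain ⟨n, rfl⟩ : ∃ n : ℕ, i = -(n : ℤ) := ⟨i.natAbs, by omega⟩
    have e : mon 𝓕 (-(n : ℤ)) ((x : A[T;T⁻¹]).coeff (-(n : ℤ))) (x.2 _) =
        (x : A[T;T⁻¹]).coeff (-(n : ℤ)) • 𝓕.u ^ n := by
      refine Subtype.ext ?_
      rw [coe_mon, SetLike.val_smul, coe_u_pow, Algebra.smul_def]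
      rfl
    rw [e]
    exact Subalgebra.smul_mem _ (Subalgebra.pow_mem _ (Algebra.subset_adjoin (by simp)) _) _
  · obtain ⟨n, rfl⟩ := Int.eq_ofNat_of_zero_le hi
    have hm : Polynomial.monomial n ((x : A[T;T⁻¹]).coeff (n : ℤ)) ∈ 𝓕.rees := fun k => by
      rw [Polynomial.coeff_monomial]; split_ifs with hk
      · subst hk; exact x.2 (n : ℤ)
      · exact Ideal.zero_mem _
    have e : mon 𝓕 (n : ℤ) ((x : A[T;T⁻¹]).coeff (n : ℤ)) (x.2 _) = ofRees 𝓕 ⟨_, hm⟩ :=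
      Subtype.ext (Polynomial.toLaurent_C_mul_T n _).symm
    rw [e]
    have h2 : ofRees 𝓕 ⟨_, hm⟩ ∈ (Algebra.adjoin A (s : Set 𝓕.rees)).map (ofRees 𝓕) :=
      ⟨_, by rw [hs]; exact Algebra.mem_top, rfl⟩
    rw [AlgHom.map_adjoin] at h2
    refine Algebra.adjoin_mono ?_ h2
    rw [Finset.coe_union, Finset.coe_image]
    exact Set.subset_union_left

theorem isNoetherian [IsNoetherianRing A] (hfg : Algebra.FiniteType A 𝓕.rees) :
    IsNoetherianRing 𝓕.extRees :=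
  haveI := finiteType 𝓕 hfg
  Algebra.FiniteType.isNoetherianRing A 𝓕.extRees

/-- The local rings of `R'` away from `u` are local rings of `A[X]`. -/
theorem exists_poly_prime (P : Ideal 𝓕.extRees) [P.IsPrime] (hu : 𝓕.u ∉ P) :
    ∃ (P₀ : Ideal A[X]) (_ : P₀.IsPrime),
      P₀.comap (algebraMap A A[X]) = P.comap (algebraMap A 𝓕.extRees) ∧
      Nonempty (Localization.AtPrime P ≃+* Localization.AtPrime P₀) := by
  have hd : Disjoint (Submonoid.powers 𝓕.u : Set 𝓕.extRees) (P : Set 𝓕.extRees) :=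
    Set.disjoint_left.2 fun a ⟨n, hn⟩ hb => hu (Ideal.IsPrime.mem_of_pow_mem ‹_› n (show 𝓕.u ^ n ∈ P by rw [show 𝓕.u ^ n = a from hn]; exact hb))
  obtain ⟨Q, hQ, rfl⟩ : ∃ Q : Ideal A[T;T⁻¹], Q.IsPrime ∧ Q.comap (algebraMap 𝓕.extRees A[T;T⁻¹]) = P :=
    ⟨_, IsLocalization.isPrime_of_isPrime_disjoint (Submonoid.powers 𝓕.u) A[T;T⁻¹] P inferInstance hd,
      IsLocalization.under_map_of_isPrime_disjoint (Submonoid.powers 𝓕.u) A[T;T⁻¹] inferInstance hd⟩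
  obtain ⟨e₁⟩ := exists_equiv_comap (B := 𝓕.extRees) (Submonoid.powers 𝓕.u) Q
  obtain ⟨e₂⟩ := exists_equiv_comap (B := A[X]) (Submonoid.powers (X : A[X])) Q
  refine ⟨Q.comap (algebraMap A[X] A[T;T⁻¹]), inferInstance, ?_, ⟨e₁.symm.trans e₂⟩⟩
  ext a
  simp only [Ideal.mem_comap, Polynomial.algebraMap_eq, LaurentPolynomial.algebraMap_eq_toLaurent,
    Polynomial.toLaurent_C]
  rfl

/-- Over a prime `q` of `A`: the prime `q A[T;T⁻¹] ∩ R'`. -/
theorem exists_prime_over (q : Ideal A) [q.IsPrime] :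
    ∃ (P : Ideal 𝓕.extRees) (_ : P.IsPrime), 𝓕.u ∉ P ∧
      P.comap (algebraMap A 𝓕.extRees) = q ∧
      (∀ x ∈ P, ∀ i : ℤ, (x : A[T;T⁻¹]).coeff i ∈ q) ∧
      ∃ (_ : (q.map (algebraMap A A[X])).IsPrime),
        Nonempty (Localization.AtPrime P ≃+* Localization.AtPrime (q.map (algebraMap A A[X]))) := by
  let P₀ : Ideal A[X] := q.map (algebraMap A A[X])
  have hP₀ : P₀.IsPrime := Ideal.isPrime_map_C_of_isPrime (P := q)
  have hX : (X : A[X]) ∉ P₀ := fun h => by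
    have := Ideal.mem_map_C_iff.mp h 1
    rw [Polynomial.coeff_X_one] at this
    exact Ideal.IsPrime.one_notMem ‹_› this
  have hd : Disjoint (Submonoid.powers (X : A[X]) : Set A[X]) (P₀ : Set A[X]) :=
    Set.disjoint_left.2 fun a ⟨n, hn⟩ hb => hX (hP₀.mem_of_pow_mem n (show X ^ n ∈ P₀ by rw [show (X : A[X]) ^ n = a from hn]; exact hb))
  let Q : Ideal A[T;T⁻¹] := P₀.map (algebraMap A[X] A[T;T⁻¹])
  have hQ : Q.IsPrime :=
    IsLocalization.isPrime_of_isPrime_disjoint (Submonoid.powers (X : A[X])) A[T;T⁻¹] P₀ hP₀ hd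
  have hQc : Q.comap (algebraMap A[X] A[T;T⁻¹]) = P₀ :=
    IsLocalization.under_map_of_isPrime_disjoint (Submonoid.powers (X : A[X])) A[T;T⁻¹] hP₀ hd
  have hQmem : ∀ x ∈ Q, ∀ i : ℤ, x.coeff i ∈ q := by
    intro x hx i
    obtain ⟨⟨⟨p, hp⟩, ⟨t, n, rfl⟩⟩, h⟩ :=
      (IsLocalization.mem_map_algebraMap_iff (Submonoid.powers (X : A[X])) A[T;T⁻¹]).mp hx
    simp only [LaurentPolynomial.algebraMap_eq_toLaurent, Polynomial.toLaurent_X_pow] at h
    have hi := coeff_mul_T x (n : ℤ) (i + n)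
    rw [h, add_sub_cancel_right] at hi
    rw [← hi]
    rcases lt_or_ge (i + n) 0 with h' | h'
    · rw [toLaurent_coeff_neg _ h']; exact q.zero_mem
    · obtain ⟨m, hm⟩ := Int.eq_ofNat_of_zero_le h'
      rw [hm, toLaurent_coeff]
      exact Ideal.mem_map_C_iff.mp hp m
  refine ⟨Q.comap (algebraMap 𝓕.extRees A[T;T⁻¹]), inferInstance,
    fun h => hQ.ne_top (Ideal.eq_top_of_isUnit_mem _ h (isUnit_T (-1))), ?_, fun x hx => hQmem _ hx, hP₀, ?_⟩
  · ext a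
    constructor
    · intro h
      have := hQmem _ h 0
      rwa [show algebraMap 𝓕.extRees A[T;T⁻¹] (algebraMap A 𝓕.extRees a) = LaurentPolynomial.C a from rfl,
        LaurentPolynomial.C_apply, if_pos rfl] at this
    · intro h
      show LaurentPolynomial.C a ∈ Q
      rw [← Polynomial.toLaurent_C]
      exact Ideal.mem_map_of_mem _ (Ideal.mem_map_of_mem _ h)
  · obtain ⟨e₁⟩ := exists_equiv_comap (B := 𝓕.extRees) (Submonoid.powers 𝓕.u) Q
    obtain ⟨e₂⟩ := exists_equiv_comap (B := A[X]) (Submonoid.powers (X : A[X])) Q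
    have e₃ : Nonempty (Localization.AtPrime (Q.comap (algebraMap A[X] A[T;T⁻¹])) ≃+*
        Localization.AtPrime P₀) := by
      have : ∀ (I : Ideal A[X]) [I.IsPrime], I = P₀ →
          Nonempty (Localization.AtPrime I ≃+* Localization.AtPrime P₀) := by
        intro I _ hI; subst hI; exact ⟨RingEquiv.refl _⟩
      exact this _ hQc
    obtain ⟨e₃⟩ := e₃
    exact ⟨e₁.symm.trans (e₂.trans e₃)⟩

theorem F_le_one {n : ℕ} (hn : 0 < n) : 𝓕.F n ≤ 𝓕.F 1 := 𝓕.antitone hn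

theorem F_one_ne_top [Nontrivial A] (hsep : ⨅ n, 𝓕.F n = ⊥) : 𝓕.F 1 ≠ ⊤ := by
  intro h
  have : ∀ n, 𝓕.F n = ⊤ := by
    intro n
    induction n with
    | zero => exact 𝓕.zero_eq
    | succ n ih =>
      refine top_unique ?_
      calc (⊤ : Ideal A) = 𝓕.F n * 𝓕.F 1 := by rw [ih, h, Ideal.top_mul]
        _ ≤ _ := 𝓕.mul_le n 1
  simp only [this, iInf_top] at hsep
  exact top_ne_bot hsep

/-- Modulo `F¹` the constant coefficient is multiplicative. -/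
theorem coeff_zero_mul (x y : 𝓕.extRees) :
    ((x * y : 𝓕.extRees) : A[T;T⁻¹]).coeff 0 - (x : A[T;T⁻¹]).coeff 0 * (y : A[T;T⁻¹]).coeff 0 ∈ 𝓕.F 1 := by
  classical
  have e : ((x * y : 𝓕.extRees) : A[T;T⁻¹]) = ∑ i ∈ (y : A[T;T⁻¹]).coeff.support,
      (x : A[T;T⁻¹]) * (mon 𝓕 i ((y : A[T;T⁻¹]).coeff i) (y.2 i) : A[T;T⁻¹]) := by
    rw [← Finset.mul_sum, ← AddSubmonoidClass.coe_finsetSum, ← sum_mon 𝓕 y, Subalgebra.coe_mul]
  rw [e]
  rw [AddMonoidAlgebra.coeff_sum, Finsupp.finsetSum_apply]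
  simp only [coe_mon, coeff_mul_C_mul_T]
  by_cases hy : (y : A[T;T⁻¹]).coeff 0 = 0
  · rw [hy, mul_zero, sub_zero]
    refine Ideal.sum_mem _ fun i hi => ?_
    rcases lt_trichotomy i 0 with h | rfl | h
    · exact Ideal.mul_mem_right _ _ (𝓕.antitone (show 1 ≤ (0 - i).toNat by omega) (x.2 _))
    · exact absurd hy (Finsupp.mem_support_iff.mp hi)
    · exact Ideal.mul_mem_left _ _ (𝓕.antitone (show 1 ≤ i.toNat by omega) (y.2 _))
  · rw [← Finset.sum_erase_add _ _ (Finsupp.mem_support_iff.mpr hy)]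
    simp only [sub_zero, add_sub_cancel_right]
    refine Ideal.sum_mem _ fun i hi => ?_
    rcases lt_or_gt_of_ne (Finset.ne_of_mem_erase hi) with h | h
    · exact Ideal.mul_mem_right _ _ (𝓕.antitone (show 1 ≤ (0 - i).toNat by omega) (x.2 _))
    · exact Ideal.mul_mem_left _ _ (𝓕.antitone (show 1 ≤ i.toNat by omega) (y.2 _))

/-- The constant coefficient modulo `F¹`. -/
noncomputable def zeroHom : 𝓕.extRees →+* A ⧸ 𝓕.F 1 where
  toFun x := Ideal.Quotient.mk _ ((x : A[T;T⁻¹]).coeff 0)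
  map_one' := by
    rw [← map_one (Ideal.Quotient.mk (𝓕.F 1))]
    congr 1
    show (1 : A[T;T⁻¹]).coeff 0 = 1
    rw [← T_zero, T_apply, if_pos rfl]
  map_mul' x y := by
    rw [← map_mul, Ideal.Quotient.eq]; exact coeff_zero_mul 𝓕 x y
  map_zero' := by simp
  map_add' x y := by rw [← map_add]; rfl

/-- The prime `{x : x₀ ∈ q}` of `R'`, for `q ⊇ F¹`. -/
noncomputable def starPrime (q : Ideal A) : Ideal 𝓕.extRees :=
  (q.map (Ideal.Quotient.mk (𝓕.F 1))).comap (zeroHom 𝓕)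

theorem mem_starPrime {q : Ideal A} (hq : 𝓕.F 1 ≤ q) (x : 𝓕.extRees) :
    x ∈ starPrime 𝓕 q ↔ (x : A[T;T⁻¹]).coeff 0 ∈ q := by
  show Ideal.Quotient.mk (𝓕.F 1) ((x : A[T;T⁻¹]).coeff 0) ∈ q.map (Ideal.Quotient.mk (𝓕.F 1)) ↔ _
  rw [← Ideal.mem_comap, Ideal.comap_map_of_surjective _ Ideal.Quotient.mk_surjective,
    ← RingHom.ker_eq_comap_bot, Ideal.mk_ker, sup_eq_left.mpr hq]

theorem isPrime_starPrime (q : Ideal A) [q.IsPrime] (hq : 𝓕.F 1 ≤ q) : (starPrime 𝓕 q).IsPrime :=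
  haveI : (q.map (Ideal.Quotient.mk (𝓕.F 1))).IsPrime :=
    Ideal.map_isPrime_of_surjective Ideal.Quotient.mk_surjective (by rwa [Ideal.mk_ker])
  Ideal.comap_isPrime _ _

theorem u_mem_starPrime (q : Ideal A) (hq : 𝓕.F 1 ≤ q) : 𝓕.u ∈ starPrime 𝓕 q := by
  rw [mem_starPrime 𝓕 hq]
  show (T (-1) : A[T;T⁻¹]).coeff 0 ∈ q
  rw [T_apply, if_neg (by omega)]
  exact q.zero_mem

theorem mem_span_u_iff (x : 𝓕.extRees) :
    x ∈ Ideal.span {𝓕.u} ↔ ∀ n : ℕ, (x : A[T;T⁻¹]).coeff (n : ℤ) ∈ 𝓕.F (n + 1) := by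
  constructor
  · intro h n
    obtain ⟨y, rfl⟩ := Ideal.mem_span_singleton'.mp h
    show ((y : A[T;T⁻¹]) * T (-1)).coeff (n : ℤ) ∈ _
    rw [coeff_mul_T]
    exact 𝓕.antitone (show n + 1 ≤ ((n : ℤ) - -1).toNat by omega) (y.2 _)
  · intro h
    have hmem : (x : A[T;T⁻¹]) * T 1 ∈ 𝓕.extRees := fun i => by
      rw [coeff_mul_T]
      by_cases hi : i ≤ 0
      · exact mem_F_toNat_of_nonpos 𝓕 _ hi
      · obtain ⟨n, hn⟩ := Int.eq_ofNat_of_zero_le (show (0 : ℤ) ≤ i - 1 by omega)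
        rw [hn, show i.toNat = n + 1 by omega]
        exact h n
    refine Ideal.mem_span_singleton'.mpr ⟨⟨_, hmem⟩, Subtype.ext ?_⟩
    show (x : A[T;T⁻¹]) * (T 1 : A[T;T⁻¹]) * (T (-1) : A[T;T⁻¹]) = (x : A[T;T⁻¹])
    rw [mul_T_assoc, show (1 : ℤ) + -1 = 0 by norm_num, T_zero, mul_one]

end Groth.Agent.ExtReesLib
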