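import Groth.Agent.ExtReesLib.Serre

/-!
# Serre's condition `(S₂)` descends from `R'` to the Rees algebra `R`
-/

set_option autoImplicit false

universe u

open IsLocalRing

namespace Groth.Agent.ExtReesLib

local notation "dpt" P => LocCoh.depth (Localization.AtPrime P) (Localization.AtPrime P)

/-- Primes off `g` along an injection which becomes bijective after inverting `g`. -/
theorem exists_prime_of_away {R S : Type u} [CommRing R] [CommRing S] (φ : R →+* S) (hinj : Function.Injective φ)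
    (g : R) (hg : ∀ y : S, ∃ (k : ℕ) (r : R), φ r = y * φ g ^ k) (P : Ideal R) [P.IsPrime] (hP : g ∉ P) :
    ∃ (P' : Ideal S) (_ : P'.IsPrime), P'.comap φ = P ∧
      Nonempty (Localization.AtPrime P ≃+* Localization.AtPrime P') := by
  let C := Localization.Away (φ g)
  letI : Algebra R C := ((algebraMap S C).comp φ).toAlgebra
  haveI : IsLocalization.Away g C :=
    { map_units := fun ⟨t, n, hn⟩ => by
        subst hn
        show IsUnit (algebraMap S C (φ (g ^ n)))
        rw [map_pow, map_pow]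
        exact (IsLocalization.Away.algebraMap_isUnit (φ g)).pow n
      surj := fun z => by
        obtain ⟨⟨y, ⟨t, m, rfl⟩⟩, hz⟩ := IsLocalization.surj (Submonoid.powers (φ g)) z
        obtain ⟨k, r, hr⟩ := hg y
        refine ⟨(r, ⟨g ^ (m + k), m + k, rfl⟩), ?_⟩
        show z * algebraMap S C (φ (g ^ (m + k))) = algebraMap S C (φ r)
        simp only at hz
        rw [hr, map_mul (algebraMap S C), ← hz, pow_add, map_mul φ, map_mul (algebraMap S C),
          map_pow φ, map_pow φ, mul_assoc]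
      exists_of_eq := fun {x y} h => by
        obtain ⟨⟨t, n, rfl⟩, hn⟩ := (IsLocalization.eq_iff_exists (Submonoid.powers (φ g)) C).mp h
        refine ⟨⟨g ^ n, n, rfl⟩, hinj ?_⟩
        simpa using hn }
  have hd : Disjoint (Submonoid.powers g : Set R) (P : Set R) :=
    Set.disjoint_left.2 fun a ⟨n, hn⟩ hb => hP (Ideal.IsPrime.mem_of_pow_mem ‹_› n
      (show g ^ n ∈ P by rw [show g ^ n = a from hn]; exact hb))
  obtain ⟨Q, hQ, rfl⟩ : ∃ Q : Ideal C, Q.IsPrime ∧ Q.comap (algebraMap R C) = P :=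
    ⟨_, IsLocalization.isPrime_of_isPrime_disjoint (Submonoid.powers g) C P inferInstance hd,
      IsLocalization.under_map_of_isPrime_disjoint (Submonoid.powers g) C inferInstance hd⟩
  obtain ⟨e₁⟩ := exists_equiv_comap (B := R) (Submonoid.powers g) Q
  obtain ⟨e₂⟩ := exists_equiv_comap (B := S) (Submonoid.powers (φ g)) Q
  exact ⟨Q.comap (algebraMap S C), inferInstance, rfl, ⟨e₁.symm.trans e₂⟩⟩

/-- An element killed by a prime which is not associated is killed outside that prime. -/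
theorem exists_notMem_smul {R M : Type u} [CommRing R] [IsNoetherianRing R] [AddCommGroup M] [Module R M]
    (q : Ideal R) [q.IsPrime] (hq : q ∉ associatedPrimes R M) (z : M) (hz : ∀ c ∈ q, c • z = 0) :
    ∃ s : R, s ∉ q ∧ s • z = 0 := by
  by_contra hc
  push Not at hc
  exact hq (Alg6.mem_ass_iff.mpr ⟨inferInstance, z, fun a => ⟨hz a, fun ha => by_contra fun h => hc a h ha⟩⟩)

theorem notMem_ass_of_one_le {R : Type u} [CommRing R] [IsNoetherianRing R] (q : Ideal R) [q.IsPrime]
    (h : 1 ≤ dpt q) : q ∉ associatedPrimes R R := by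
  haveI : IsNoetherianRing (Localization.AtPrime q) := IsLocalization.isNoetherianRing q.primeCompl _ inferInstance
  haveI : Module.Finite (Localization.AtPrime q) (LocalizedModule q.primeCompl R) :=
    Module.Finite.of_isLocalizedModule q.primeCompl (LocalizedModule.mkLinearMap _ R)
  rw [← FlatLoc6.depth_self_atPrime] at h
  exact fun hc => Alg6.one_le_depth_iff.mp h ((Alg6.ass_localized_iff q).mpr hc)

theorem two_le_depth_atPrime_iff {R : Type u} [CommRing R] [IsNoetherianRing R] (q : Ideal R) [q.IsPrime]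
    {a : R} (ha : a ∈ q) (hreg : IsSMulRegular R a) :
    (2 ≤ dpt q) ↔ q ∉ associatedPrimes R (QuotSMulTop a R) := by
  haveI : IsNoetherianRing (Localization.AtPrime q) := IsLocalization.isNoetherianRing q.primeCompl _ inferInstance
  haveI : Module.Finite (Localization.AtPrime q) (LocalizedModule q.primeCompl R) :=
    Module.Finite.of_isLocalizedModule q.primeCompl (LocalizedModule.mkLinearMap _ R)
  rw [← FlatLoc6.depth_self_atPrime, Alg6.two_le_depth_iff ((Alg6.mem_maximalIdeal_iff q).mpr ha)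
    (Alg6.isSMulRegular_localized q hreg), Alg6.ass_localized_quot_iff q ha]

variable {A : Type u} [CommRing A] (𝓕 : FiltBl.IdealFiltration A)

/-- The monomial `a Xⁿ`. -/
noncomputable def monR (n : ℕ) (a : A) (h : a ∈ 𝓕.F n) : 𝓕.rees :=
  ⟨Polynomial.monomial n a, fun k => by
    rw [Polynomial.coeff_monomial]; split_ifs with hk
    · exact hk ▸ h
    · exact Ideal.zero_mem _⟩

theorem sum_monR (f : 𝓕.rees) :
    f = ∑ i ∈ Finset.range ((f : Polynomial A).natDegree + 1), monR 𝓕 i ((f : Polynomial A).coeff i) (f.2 i) := by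
  refine Subtype.ext ?_
  rw [AddSubmonoidClass.coe_finsetSum]
  exact Polynomial.as_sum_range' _ _ (Nat.lt_succ_self _)

variable [IsNoetherianRing A] [IsNoetherianRing 𝓕.extRees] {G : Type u} [CommRing G]

omit [IsNoetherianRing A] in
/-- If `q + G₊` is not associated in `G`, a relation pushes `g` one step down the filtration. -/
theorem improve (φ : 𝓕.extRees →+* G) (hφ : Function.Surjective φ) (hker : RingHom.ker φ = Ideal.span {𝓕.u})
    (q : Ideal A) [q.IsPrime] (hqF : 𝓕.F 1 ≤ q) (p : Ideal G) [p.IsPrime]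
    (hp : p.comap φ = starPrime 𝓕 q) (hass : p ∉ associatedPrimes G G)
    (i j : ℕ) (hji : j < i) (g : A) (hg : g ∈ 𝓕.F j) (h0 : ∀ c ∈ q, c * g ∈ 𝓕.F i)
    (h1 : ∀ n : ℕ, 0 < n → ∀ d ∈ 𝓕.F n, d * g ∈ 𝓕.F (i + n)) :
    ∃ s : A, s ∉ q ∧ s * g ∈ 𝓕.F (j + 1) := by
  haveI : IsNoetherianRing G := isNoetherianRing_of_surjective _ G φ hφ
  have hg' : g ∈ 𝓕.F (j : ℤ).toNat := hg
  obtain ⟨c, hc, hc0⟩ := exists_notMem_smul p hass (φ (mon 𝓕 j g hg')) (fun c hc => by
    obtain ⟨x, rfl⟩ := hφ c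
    have hx : (x : LaurentPolynomial A).coeff 0 ∈ q := by
      rw [← mem_starPrime 𝓕 hqF, ← hp]; exact hc
    rw [smul_eq_mul, ← map_mul, ← RingHom.mem_ker, hker, mem_span_u_iff]
    intro n
    rw [Subalgebra.coe_mul, coe_mon, coeff_mul_C_mul_T]
    rcases lt_trichotomy ((n : ℤ) - j) 0 with h | h | h
    · exact Ideal.mul_mem_left _ _ (𝓕.antitone (show n + 1 ≤ j by omega) hg)
    · rw [h]
      exact 𝓕.antitone (show n + 1 ≤ i by omega) (h0 _ hx)
    · refine 𝓕.antitone (show n + 1 ≤ i + ((n : ℤ) - j).toNat by omega) (h1 _ (by omega) _ ?_)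
      exact x.2 _)
  obtain ⟨x, rfl⟩ := hφ c
  refine ⟨(x : LaurentPolynomial A).coeff 0, fun h => hc ?_, ?_⟩
  · show x ∈ p.comap φ
    rw [hp, mem_starPrime 𝓕 hqF]; exact h
  · rw [smul_eq_mul, ← map_mul, ← RingHom.mem_ker, hker, mem_span_u_iff] at hc0
    have := hc0 j
    rwa [Subalgebra.coe_mul, coe_mon, coeff_mul_C_mul_T, sub_self] at this

theorem rees_hasSk_two [IsNoetherianRing 𝓕.rees] (φ : 𝓕.extRees →+* G) (hφ : Function.Surjective φ)
    (hker : RingHom.ker φ = Ideal.span {𝓕.u}) (hht : 2 ≤ (𝓕.F 1).height)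
    (h : LocCoh.HasSk 2 𝓕.extRees 𝓕.extRees) : LocCoh.HasSk 2 𝓕.rees 𝓕.rees := by
  haveI : IsNoetherianRing G := isNoetherianRing_of_surjective _ G φ hφ
  have hA := ((hasSk_two_iff 𝓕 φ hφ hker).mp h).2
  simp only [FlatLoc6.hasSk_self_iff, Nat.cast_ofNat] at hA h ⊢
  intro P _
  set q := P.comap (algebraMap A 𝓕.rees) with hqdef
  by_cases hmon : ∀ (n : ℕ) (a : A) (ha : a ∈ 𝓕.F n), 0 < n → monR 𝓕 n a ha ∈ P
  swap
  · push Not at hmon
    obtain ⟨n, a, ha, hn, hP⟩ := hmon
    have hinj : Function.Injective (ofRees 𝓕).toRingHom := fun f g hfg =>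
      Subtype.ext (Polynomial.toLaurent_injective (congrArg Subtype.val hfg))
    obtain ⟨P', _, -, ⟨e⟩⟩ := exists_prime_of_away (ofRees 𝓕).toRingHom hinj (monR 𝓕 n a ha) (fun y => by
      obtain ⟨N, hN⟩ := exists_bound (y : LaurentPolynomial A)
      let z : 𝓕.extRees := y * (ofRees 𝓕).toRingHom (monR 𝓕 n a ha) ^ N
      have hpow : (((ofRees 𝓕).toRingHom (monR 𝓕 n a ha) ^ N : 𝓕.extRees) : LaurentPolynomial A) =
          LaurentPolynomial.C (a ^ N) * LaurentPolynomial.T ((N : ℤ) * n) := by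
        rw [Subalgebra.coe_pow]
        show (Polynomial.toLaurent (Polynomial.monomial n a)) ^ N = _
        rw [Polynomial.toLaurent_C_mul_T, mul_pow, ← map_pow, LaurentPolynomial.T_pow]
      have hneg : ∀ i : ℤ, i < 0 → (z : LaurentPolynomial A).coeff i = 0 := fun i hi => by
        rw [Subalgebra.coe_mul, hpow, coeff_mul_C_mul_T]
        by_cases h0 : (y : LaurentPolynomial A).coeff (i - (N : ℤ) * n) = 0
        · rw [h0, zero_mul]
        · have := hN _ h0
          have : (N : ℤ) ≤ (N : ℤ) * n := by nlinarith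
          omega
      refine ⟨N, ∑ i ∈ (z : LaurentPolynomial A).coeff.support,
        monR 𝓕 i.toNat ((z : LaurentPolynomial A).coeff i) (z.2 i), ?_⟩
      rw [map_sum]
      refine Eq.trans ?_ (sum_mon 𝓕 z).symm
      refine Finset.sum_congr rfl fun i hi => Subtype.ext ?_
      have hi0 : 0 ≤ i := not_lt.mp fun h' => Finsupp.mem_support_iff.mp hi (hneg i h')
      show Polynomial.toLaurent (Polynomial.monomial i.toNat _) = _
      rw [Polynomial.toLaurent_C_mul_T, Int.toNat_of_nonneg hi0, coe_mon]) P hP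
    obtain ⟨h1, h2, -⟩ := invariants_of_equiv P P' e
    rw [h1, h2]
    exact h P'
  by_cases hqF : 𝓕.F 1 ≤ q
  swap
  · obtain ⟨a, ha, haP⟩ := SetLike.not_le_iff_exists.mp hqF
    obtain ⟨P₀, _, hc, ⟨e⟩⟩ := exists_prime_of_away 𝓕.rees.val.toRingHom Subtype.val_injective
      (algebraMap A 𝓕.rees a) (fun f => by
        refine ⟨f.natDegree, ⟨f * Polynomial.C (a ^ f.natDegree), fun i => ?_⟩, ?_⟩
        · rw [Polynomial.coeff_mul_C]
          rcases le_or_gt i f.natDegree with hi | hi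
          · refine Ideal.mul_mem_left _ _ (𝓕.antitone hi ?_)
            have : ∀ k, a ^ k ∈ 𝓕.F k := fun k => by
              induction k with
              | zero => rw [𝓕.zero_eq]; exact Submodule.mem_top
              | succ k ih => rw [pow_succ]; exact 𝓕.mul_le k 1 (Ideal.mul_mem_mul ih ha)
            exact this _
          · rw [Polynomial.coeff_eq_zero_of_natDegree_lt hi, zero_mul]; exact Ideal.zero_mem _
        · show f * Polynomial.C (a ^ f.natDegree) = f * (Polynomial.C a) ^ f.natDegree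
          rw [map_pow]) P haP
    obtain ⟨h1, h2, -⟩ := invariants_of_equiv P P₀ e
    obtain ⟨f, g1, g2, -⟩ := poly P₀
    have hq : P₀.comap (algebraMap A (Polynomial A)) = q := by
      rw [hqdef, ← hc, Ideal.comap_comap]
      rfl
    rw [h1, h2, g1, g2]
    exact min_add_le (hA _)
  have hh2 : 2 ≤ q.height := hht.trans (Ideal.height_mono hqF)
  have hdq : 2 ≤ dpt q := by have := hA q; rwa [min_eq_left hh2] at this
  obtain ⟨a, haF, hareg⟩ := (Alg6.exists_isSMulRegular_mem_iff (M := A) (𝓕.F 1)).mpr fun p hp hle => by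
    haveI : p.IsPrime := IsAssociatedPrime.isPrime (AssociatedPrimes.mem_iff.mp hp)
    have := hA p
    rw [min_eq_left (hht.trans (Ideal.height_mono hle))] at this
    exact notMem_ass_of_one_le p (one_le_two.trans this) hp
  have hassA := (two_le_depth_atPrime_iff q (hqF haF) hareg).mp hdq
  haveI := isPrime_starPrime 𝓕 q hqF
  obtain ⟨p, _, hp⟩ := exists_eq_comap 𝓕 φ hφ hker (starPrime 𝓕 q) (u_mem_starPrime 𝓕 q hqF)
  have hassG : p ∉ associatedPrimes G G := by
    obtain ⟨h1, h2, -⟩ := cut φ hφ (u_mem_nonZeroDivisors 𝓕) hker p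
    have h3 := h (p.comap φ)
    obtain ⟨Pq, _, -, -, hmem, -, g2, -⟩ := above 𝓕 q
    have h4 : 2 ≤ (p.comap φ).height := by
      refine hh2.trans (g2 ▸ Ideal.height_mono ?_)
      rw [hp]
      exact fun x hx => (mem_starPrime 𝓕 hqF x).mpr (hmem x hx 0)
    rw [min_eq_left h4, h1, show (2 : ℕ∞) = 1 + 1 by norm_num,
      ENat.add_le_add_iff_right ENat.one_ne_top] at h3
    exact notMem_ass_of_one_le p h3
  have hareg' : IsSMulRegular 𝓕.rees (algebraMap A 𝓕.rees a) := by
    intro x y hxy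
    refine Subtype.ext (Polynomial.ext fun i => hareg ?_)
    have := congrArg (fun z : 𝓕.rees => (z : Polynomial A).coeff i) hxy
    simpa only [smul_eq_mul, Subalgebra.coe_mul, Subalgebra.coe_algebraMap, Polynomial.algebraMap_eq,
      Polynomial.coeff_C_mul] using this
  refine le_trans (min_le_left _ _) ((two_le_depth_atPrime_iff P (hqF haF) hareg').mpr fun hass => ?_)
  obtain ⟨-, z, hz⟩ := Alg6.mem_ass_iff.mp hass
  obtain ⟨f, rfl⟩ := Submodule.Quotient.mk_surjective _ z
  let J : Ideal 𝓕.rees := Ideal.span {algebraMap A 𝓕.rees a}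
  have hJ : ∀ x ∈ P, ∀ i, ∃ w ∈ 𝓕.F i, a * w = ((x * f : 𝓕.rees) : Polynomial A).coeff i := by
    intro x hx i
    obtain ⟨w, hw⟩ := Alg6.mem_pointwise_smul_top_iff.mp
      (show (Submodule.Quotient.mk (x • f) : QuotSMulTop (algebraMap A 𝓕.rees a) 𝓕.rees) = 0 by
        rw [Submodule.Quotient.mk_smul]; exact (hz x).mp hx)
    refine ⟨(w : Polynomial A).coeff i, w.2 i, ?_⟩
    rw [algebraMap_smul] at hw
    have := congrArg (fun z : 𝓕.rees => (z : Polynomial A).coeff i) hw
    simpa only [SetLike.val_smul, Polynomial.coeff_smul, smul_eq_mul] using this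
  have hstep : ∀ i, ∃ s : A, s ∉ q ∧
      algebraMap A 𝓕.rees s * monR 𝓕 i ((f : Polynomial A).coeff i) (f.2 i) ∈ J := by
    intro i
    obtain ⟨s₁, hs₁, hs₁'⟩ := exists_notMem_smul q hassA
      (Submodule.Quotient.mk ((f : Polynomial A).coeff i) : QuotSMulTop a A) (fun c hc => by
        obtain ⟨w, -, hw⟩ := hJ (algebraMap A 𝓕.rees c) hc i
        rw [← Submodule.Quotient.mk_smul, Alg6.mem_pointwise_smul_top_iff]
        refine ⟨w, ?_⟩
        rw [smul_eq_mul, hw, ← Algebra.smul_def, SetLike.val_smul, Polynomial.coeff_smul])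
    rw [← Submodule.Quotient.mk_smul, Alg6.mem_pointwise_smul_top_iff] at hs₁'
    obtain ⟨g, hg⟩ := hs₁'
    rw [smul_eq_mul, smul_eq_mul] at hg
    have cancel : ∀ (x w : A), a * w = a * x → x = w := fun x w hxw => (hareg hxw).symm
    have h0 : ∀ c ∈ q, c * g ∈ 𝓕.F i := fun c hc => by
      obtain ⟨w, hw, hw'⟩ := hJ (algebraMap A 𝓕.rees c) hc i
      rw [← Algebra.smul_def, SetLike.val_smul, Polynomial.coeff_smul, smul_eq_mul] at hw'
      rw [cancel (c * g) (s₁ * w) (by rw [mul_left_comm a c g, hg, mul_left_comm a s₁ w, hw']; ring)]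
      exact Ideal.mul_mem_left _ _ hw
    have h1 : ∀ n : ℕ, 0 < n → ∀ d ∈ 𝓕.F n, d * g ∈ 𝓕.F (i + n) := fun n hn d hd => by
      obtain ⟨w, hw, hw'⟩ := hJ (monR 𝓕 n d hd) (hmon n d hd hn) (i + n)
      rw [Subalgebra.coe_mul] at hw'
      rw [show ((monR 𝓕 n d hd : 𝓕.rees) : Polynomial A) = Polynomial.monomial n d from rfl,
        Polynomial.coeff_monomial_mul] at hw'
      rw [cancel (d * g) (s₁ * w) (by rw [mul_left_comm a d g, hg, mul_left_comm a s₁ w, hw']; ring)]
      exact Ideal.mul_mem_left _ _ hw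
    have hind : ∀ j, j ≤ i → ∃ s : A, s ∉ q ∧ s * g ∈ 𝓕.F j := by
      intro j
      induction j with
      | zero => exact fun _ => ⟨1, (Ideal.IsPrime.one_notMem inferInstance), by rw [𝓕.zero_eq]; exact Submodule.mem_top⟩
      | succ j ih =>
        intro hj
        obtain ⟨s, hs, hsg⟩ := ih (by omega)
        obtain ⟨t, ht, htg⟩ := improve 𝓕 φ hφ hker q hqF p hp hassG i j (by omega) (s * g) hsg
          (fun c hc => by rw [mul_left_comm]; exact Ideal.mul_mem_left _ _ (h0 c hc))
          (fun n hn d hd => by rw [mul_left_comm]; exact Ideal.mul_mem_left _ _ (h1 n hn d hd))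
        exact ⟨t * s, fun h' => (Ideal.IsPrime.mem_or_mem inferInstance h').elim ht hs, by rwa [mul_assoc]⟩
    obtain ⟨s₂, hs₂, hs₂'⟩ := hind i le_rfl
    refine ⟨s₂ * s₁, fun h' => (Ideal.IsPrime.mem_or_mem inferInstance h').elim hs₂ hs₁, ?_⟩
    refine Ideal.mem_span_singleton'.mpr ⟨monR 𝓕 i (s₂ * g) hs₂', Subtype.ext ?_⟩
    show Polynomial.monomial i (s₂ * g) * Polynomial.C a =
      Polynomial.C (s₂ * s₁) * Polynomial.monomial i ((f : Polynomial A).coeff i)
    rw [Polynomial.monomial_mul_C, Polynomial.C_mul_monomial, mul_assoc s₂ s₁, ← hg]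
    ring_nf
  choose s hs hs' using hstep
  let I := Finset.range ((f : Polynomial A).natDegree + 1)
  have hmem : algebraMap A 𝓕.rees (∏ i ∈ I, s i) * f ∈ J := by
    conv => arg 2; arg 2; rw [sum_monR 𝓕 f]
    rw [Finset.mul_sum]
    refine Ideal.sum_mem _ fun i hi => ?_
    rw [← Finset.prod_erase_mul _ _ hi, map_mul, mul_assoc]
    exact Ideal.mul_mem_left _ _ (hs' i)
  have hsP : algebraMap A 𝓕.rees (∏ i ∈ I, s i) ∈ P := by
    rw [hz, ← Submodule.Quotient.mk_smul, Alg6.mem_pointwise_smul_top_iff]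
    obtain ⟨w, hw⟩ := Ideal.mem_span_singleton'.mp hmem
    exact ⟨w, by rw [smul_eq_mul, smul_eq_mul, mul_comm, hw]⟩
  have : (∏ i ∈ I, s i) ∈ q := hsP
  obtain ⟨i, -, hi⟩ := (Ideal.IsPrime.prod_mem_iff).mp this
  exact hs i hi

end Groth.Agent.ExtReesLib
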