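import Groth.Agent.ExtReesLib.Basic
import Groth.Agent.FlatLoc6.SerreNormal

/-!
# Cohen–Macaulayness, the Gorenstein property and Serre's conditions of `R'`, `G` and `A`
-/

set_option autoImplicit false

universe u

open IsLocalRing

namespace Groth.Agent.ExtReesLib

local notation "dpt" P => LocCoh.depth (Localization.AtPrime P) (Localization.AtPrime P)

theorem min_succ_iff (h d : ℕ∞) : min 2 (h + 1) ≤ d + 1 ↔ min 1 h ≤ d := by
  rw [show (2 : ℕ∞) = 1 + 1 by norm_num, min_add_add_right]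
  exact ENat.add_le_add_iff_right ENat.one_ne_top

theorem min_add_le {k h d f : ℕ∞} (H : min k h ≤ d) : min k (h + f) ≤ d + f :=
  le_trans (min_le_min_right _ le_self_add)
    (by rw [min_add_add_right]; exact add_le_add_left H f)

variable {A : Type u} [CommRing A] [IsNoetherianRing A] (𝓕 : FiltBl.IdealFiltration A)
variable [IsNoetherianRing 𝓕.extRees]

/-- Away from `u`, the local rings of `R'` against those of `A`. -/
theorem off_u (P : Ideal 𝓕.extRees) [P.IsPrime] (hu : 𝓕.u ∉ P) :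
    ∃ f : ℕ, ((dpt P) = (dpt (P.comap (algebraMap A 𝓕.extRees))) + f) ∧
      P.height = (P.comap (algebraMap A 𝓕.extRees)).height + f ∧
      (LocCoh.IsGorensteinLocalRing (Localization.AtPrime P) ↔
        LocCoh.IsGorensteinLocalRing (Localization.AtPrime (P.comap (algebraMap A 𝓕.extRees)))) := by
  obtain ⟨P₀, hP₀, hc, ⟨e⟩⟩ := exists_poly_prime 𝓕 P hu
  obtain ⟨h1, h2, h3⟩ := invariants_of_equiv P P₀ e
  obtain ⟨f, g1, g2, -⟩ := poly P₀
  have key : ∀ (q : Ideal A) [q.IsPrime], P₀.comap (algebraMap A (Polynomial A)) = q →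
      ((dpt P) = (dpt q) + f) ∧ P.height = q.height + f ∧
      (LocCoh.IsGorensteinLocalRing (Localization.AtPrime P) ↔ LocCoh.IsGorensteinLocalRing (Localization.AtPrime q)) := by
    intro q _ hq; subst hq
    exact ⟨h1.trans g1, h2.trans g2, h3.trans (poly_gorenstein P₀)⟩
  exact ⟨f, key _ hc⟩

/-- Over each prime `q` of `A`, a prime of `R'` away from `u` with the same depth and height. -/
theorem above (q : Ideal A) [q.IsPrime] :
    ∃ (P : Ideal 𝓕.extRees) (_ : P.IsPrime), 𝓕.u ∉ P ∧ P.comap (algebraMap A 𝓕.extRees) = q ∧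
      (∀ x ∈ P, ∀ i : ℤ, (x : LaurentPolynomial A).coeff i ∈ q) ∧
      ((dpt P) = dpt q) ∧ P.height = q.height ∧
      (LocCoh.IsGorensteinLocalRing (Localization.AtPrime P) ↔
        LocCoh.IsGorensteinLocalRing (Localization.AtPrime q)) := by
  obtain ⟨P, hP, hu, hc, hmem, hP₀, ⟨e⟩⟩ := exists_prime_over 𝓕 q
  obtain ⟨h1, h2, h3⟩ := invariants_of_equiv P (q.map (algebraMap A (Polynomial A))) e
  have hq : (q.map (algebraMap A (Polynomial A))).comap (algebraMap A (Polynomial A)) = q := by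
    ext a
    rw [Ideal.mem_comap, Polynomial.algebraMap_eq, Ideal.mem_map_C_iff]
    refine ⟨fun h => by simpa using h 0, fun h n => ?_⟩
    rw [Polynomial.coeff_C]; split_ifs
    · exact h
    · exact q.zero_mem
  have key : ∀ (q' : Ideal A) [q'.IsPrime], (q.map (algebraMap A (Polynomial A))).comap (algebraMap A (Polynomial A)) = q' →
      q' = q → ((dpt P) = dpt q') ∧ P.height = q'.height ∧
      (LocCoh.IsGorensteinLocalRing (Localization.AtPrime P) ↔ LocCoh.IsGorensteinLocalRing (Localization.AtPrime q')) := by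
    intro q' _ hq' hq''; subst hq'
    obtain ⟨f, g1, g2, g3⟩ := poly (q.map (algebraMap A (Polynomial A)))
    obtain rfl := g3 (by rw [hq''])
    rw [Nat.cast_zero, add_zero] at g1 g2
    exact ⟨h1.trans g1, h2.trans g2, h3.trans (poly_gorenstein _)⟩
  exact ⟨P, hP, hu, hc, hmem, key q hq rfl⟩

omit [IsNoetherianRing A] [IsNoetherianRing 𝓕.extRees] in
theorem exists_eq_comap {G : Type u} [CommRing G] (φ : 𝓕.extRees →+* G) (hφ : Function.Surjective φ)
    (hker : RingHom.ker φ = Ideal.span {𝓕.u}) (P : Ideal 𝓕.extRees) [P.IsPrime] (hu : 𝓕.u ∈ P) :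
    ∃ (p : Ideal G) (_ : p.IsPrime), p.comap φ = P := by
  have hle : RingHom.ker φ ≤ P := by rw [hker, Ideal.span_singleton_le_iff_mem]; exact hu
  refine ⟨P.map φ, Ideal.map_isPrime_of_surjective hφ hle, ?_⟩
  rw [Ideal.comap_map_of_surjective φ hφ, ← RingHom.ker_eq_comap_bot, sup_eq_left.mpr hle]

omit [IsNoetherianRing A] [IsNoetherianRing 𝓕.extRees] in
theorem rp_le_iff (P : Ideal 𝓕.extRees) [P.IsPrime] (hu : 𝓕.u ∉ P) (Rp : Ideal 𝓕.extRees)
    (hRp : Rp = Ideal.span {x : 𝓕.extRees | ∃ n : ℕ, 0 < n ∧ ∃ a ∈ 𝓕.F n,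
      (x : LaurentPolynomial A) = LaurentPolynomial.C a * LaurentPolynomial.T (n : ℤ)}) :
    Rp ≤ P ↔ 𝓕.F 1 ≤ P.comap (algebraMap A 𝓕.extRees) := by
  subst hRp
  have key : ∀ (n : ℕ) (a : A) (x : 𝓕.extRees),
      (x : LaurentPolynomial A) = LaurentPolynomial.C a * LaurentPolynomial.T (n : ℤ) →
        x * 𝓕.u ^ n = algebraMap A 𝓕.extRees a := by
    intro n a x hx
    refine Subtype.ext ?_
    rw [Subalgebra.coe_mul, coe_u_pow, hx, LaurentPolynomial.mul_T_assoc, add_neg_cancel,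
      LaurentPolynomial.T_zero, mul_one]
    rfl
  constructor
  · intro h a ha
    rw [Ideal.mem_comap, ← key 1 a (mon 𝓕 1 a ha) rfl]
    exact Ideal.mul_mem_right _ _ (h (Ideal.subset_span ⟨1, one_pos, a, ha, rfl⟩))
  · intro h
    rw [Ideal.span_le]
    rintro x ⟨n, hn, a, ha, hx⟩
    have : x * 𝓕.u ^ n ∈ P := by
      rw [key n a x hx]; exact h (F_le_one 𝓕 hn ha)
    exact (Ideal.IsPrime.mem_or_mem ‹_› this).resolve_right fun h' => hu (Ideal.IsPrime.mem_of_pow_mem ‹_› n h')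

theorem cm_away_iff {G : Type u} [CommRing G] (φ : 𝓕.extRees →+* G) (hφ : Function.Surjective φ)
    (hker : RingHom.ker φ = Ideal.span {𝓕.u}) (Rp : Ideal 𝓕.extRees)
    (hRp : Rp = Ideal.span {x : 𝓕.extRees | ∃ n : ℕ, 0 < n ∧ ∃ a ∈ 𝓕.F n,
      (x : LaurentPolynomial A) = LaurentPolynomial.C a * LaurentPolynomial.T (n : ℤ)}) :
    (∀ (P : Ideal 𝓕.extRees) [P.IsPrime], ¬ Rp ≤ P →
        LocCoh.IsCohenMacaulayLocalRing (Localization.AtPrime P)) ↔
      ((∀ (p : Ideal G) [p.IsPrime], ¬ Ideal.map φ Rp ≤ p →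
          LocCoh.IsCohenMacaulayLocalRing (Localization.AtPrime p)) ∧
        (∀ (q : Ideal A) [q.IsPrime], ¬ 𝓕.F 1 ≤ q →
            LocCoh.IsCohenMacaulayLocalRing (Localization.AtPrime q))) := by
  haveI : IsNoetherianRing G := isNoetherianRing_of_surjective _ G φ hφ
  constructor
  · intro h
    refine ⟨fun p _ hp => ?_, fun q _ hq => ?_⟩
    · have := h (p.comap φ) (fun h' => hp (Ideal.map_le_iff_le_comap.mpr h'))
      obtain ⟨h1, h2, -⟩ := cut φ hφ (u_mem_nonZeroDivisors 𝓕) hker p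
      rw [isCM_atPrime_iff, h1, h2] at this
      rw [isCM_atPrime_iff]
      exact (ENat.add_left_injective_of_ne_top ENat.one_ne_top) this
    · obtain ⟨P, _, hu, hc, -, h1, h2, -⟩ := above 𝓕 q
      have := h P (by rw [rp_le_iff 𝓕 P hu Rp hRp, hc]; exact hq)
      rw [isCM_atPrime_iff, h1, h2] at this
      rwa [isCM_atPrime_iff]
  · rintro ⟨hG, hA⟩ P _ hP
    by_cases hu : 𝓕.u ∈ P
    · obtain ⟨p, _, rfl⟩ := exists_eq_comap 𝓕 φ hφ hker P hu
      obtain ⟨h1, h2, -⟩ := cut φ hφ (u_mem_nonZeroDivisors 𝓕) hker p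
      have := hG p (fun h' => hP (Ideal.map_le_iff_le_comap.mp h'))
      rw [isCM_atPrime_iff] at this
      rw [isCM_atPrime_iff, h1, h2, this]
    · obtain ⟨f, h1, h2, -⟩ := off_u 𝓕 P hu
      have := hA _ (fun h' => hP ((rp_le_iff 𝓕 P hu Rp hRp).mpr h'))
      rw [isCM_atPrime_iff] at this
      rw [isCM_atPrime_iff, h1, h2, this]

variable {G : Type u} [CommRing G] (φ : 𝓕.extRees →+* G) (hφ : Function.Surjective φ)
    (hker : RingHom.ker φ = Ideal.span {𝓕.u})
include hφ hker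

section

variable [IsLocalRing A]

omit [IsNoetherianRing 𝓕.extRees] [IsNoetherianRing A] hφ hker in
theorem F_one_le_maximal (hsep : ⨅ n, 𝓕.F n = ⊥) : 𝓕.F 1 ≤ maximalIdeal A :=
  le_maximalIdeal (F_one_ne_top 𝓕 hsep)

/-- A prime of `G` under which every local ring of `A` appears. -/
theorem exists_top_prime (hsep : ⨅ n, 𝓕.F n = ⊥) :
    ∃ (p : Ideal G) (_ : p.IsPrime) (P : Ideal 𝓕.extRees) (_ : P.IsPrime),
      P ≤ p.comap φ ∧ ((dpt P) = dpt (maximalIdeal A)) ∧
      P.height = (maximalIdeal A).height ∧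
      (LocCoh.IsGorensteinLocalRing (Localization.AtPrime P) ↔
        LocCoh.IsGorensteinLocalRing (Localization.AtPrime (maximalIdeal A))) := by
  have hm := F_one_le_maximal 𝓕 hsep
  haveI := isPrime_starPrime 𝓕 (maximalIdeal A) hm
  obtain ⟨P, hP, -, -, hmem, h1, h2, h3⟩ := above 𝓕 (maximalIdeal A)
  obtain ⟨p, hp, hpc⟩ := exists_eq_comap 𝓕 φ hφ
    hker (starPrime 𝓕 (maximalIdeal A)) (u_mem_starPrime 𝓕 _ hm)
  refine ⟨p, hp, P, hP, ?_, h1, h2, h3⟩
  rw [hpc]
  exact fun x hx => (mem_starPrime 𝓕 hm x).mpr (hmem x hx 0)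

theorem cm_iff (hsep : ⨅ n, 𝓕.F n = ⊥) :
    LocCoh.IsCohenMacaulayRing 𝓕.extRees ↔ LocCoh.IsCohenMacaulayRing G := by
  haveI : IsNoetherianRing G := isNoetherianRing_of_surjective _ G φ hφ
  constructor
  · intro h
    refine { isCohenMacaulayLocalRing_localization := fun p _ => ?_ }
    obtain ⟨h1, h2, -⟩ := cut φ hφ (u_mem_nonZeroDivisors 𝓕) hker p
    have := h.isCohenMacaulayLocalRing_localization (p.comap φ)
    rw [isCM_atPrime_iff, h1, h2] at this
    rw [isCM_atPrime_iff]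
    exact (ENat.add_left_injective_of_ne_top ENat.one_ne_top) this
  · intro h
    have up : ∀ (p : Ideal G) [p.IsPrime],
        LocCoh.IsCohenMacaulayLocalRing (Localization.AtPrime (p.comap φ)) := fun p _ => by
      obtain ⟨h1, h2, -⟩ := cut φ hφ (u_mem_nonZeroDivisors 𝓕) hker p
      have := h.isCohenMacaulayLocalRing_localization p
      rw [isCM_atPrime_iff] at this
      rw [isCM_atPrime_iff, h1, h2, this]
    refine { isCohenMacaulayLocalRing_localization := fun P _ => ?_ }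
    by_cases hu : 𝓕.u ∈ P
    · obtain ⟨p, _, rfl⟩ := exists_eq_comap 𝓕 φ hφ hker P hu
      exact up p
    · obtain ⟨p, _, Pm, _, hle, g1, g2, -⟩ := exists_top_prime 𝓕 φ hφ hker hsep
      have hPm := (of_le Pm _ hle).1 (up p)
      rw [isCM_atPrime_iff, g1, g2, ← isCM_atPrime_iff] at hPm
      obtain ⟨f, h1, h2, -⟩ := off_u 𝓕 P hu
      have := (of_le (P.comap (algebraMap A 𝓕.extRees)) (maximalIdeal A)
        (le_maximalIdeal (Ideal.IsPrime.ne_top inferInstance))).1 hPm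
      rw [isCM_atPrime_iff] at this
      rw [isCM_atPrime_iff, h1, h2, this]

theorem gorenstein_iff (hsep : ⨅ n, 𝓕.F n = ⊥) :
    LocCoh.IsGorensteinRing 𝓕.extRees ↔ LocCoh.IsGorensteinRing G := by
  haveI : IsNoetherianRing G := isNoetherianRing_of_surjective _ G φ hφ
  constructor
  · intro h
    refine { isGorensteinLocalRing_localization := fun p _ => ?_ }
    exact (cut φ hφ (u_mem_nonZeroDivisors 𝓕) hker p).2.2.mp
      (h.isGorensteinLocalRing_localization (p.comap φ))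
  · intro h
    refine { isGorensteinLocalRing_localization := fun P _ => ?_ }
    have up : ∀ (p : Ideal G) [p.IsPrime],
        LocCoh.IsGorensteinLocalRing (Localization.AtPrime (p.comap φ)) := fun p _ =>
      (cut φ hφ (u_mem_nonZeroDivisors 𝓕) hker p).2.2.mpr
        (h.isGorensteinLocalRing_localization p)
    by_cases hu : 𝓕.u ∈ P
    · obtain ⟨p, _, rfl⟩ := exists_eq_comap 𝓕 φ hφ hker P hu
      exact up p
    · obtain ⟨p, _, Pm, _, hle, -, -, g3⟩ := exists_top_prime 𝓕 φ hφ hker hsep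
      obtain ⟨f, -, -, h3⟩ := off_u 𝓕 P hu
      exact h3.mpr ((of_le (P.comap (algebraMap A 𝓕.extRees)) (maximalIdeal A)
        (le_maximalIdeal (Ideal.IsPrime.ne_top inferInstance))).2 (g3.mp ((of_le Pm _ hle).2 (up p))))

end

theorem hasSk_two_iff :
    LocCoh.HasSk 2 𝓕.extRees 𝓕.extRees ↔ (LocCoh.HasSk 1 G G ∧ LocCoh.HasSk 2 A A) := by
  haveI : IsNoetherianRing G := isNoetherianRing_of_surjective _ G φ hφ
  simp only [FlatLoc6.hasSk_self_iff, Nat.cast_ofNat, Nat.cast_one]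
  constructor
  · intro h
    refine ⟨fun p _ => ?_, fun q _ => ?_⟩
    · obtain ⟨h1, h2, -⟩ := cut φ hφ (u_mem_nonZeroDivisors 𝓕) hker p
      have := h (p.comap φ)
      rwa [h1, h2, min_succ_iff] at this
    · obtain ⟨P, _, -, -, -, h1, h2, -⟩ := above 𝓕 q
      have := h P
      rwa [h1, h2] at this
  · rintro ⟨hG, hA⟩ P _
    by_cases hu : 𝓕.u ∈ P
    · obtain ⟨p, _, rfl⟩ := exists_eq_comap 𝓕 φ hφ hker P hu
      obtain ⟨h1, h2, -⟩ := cut φ hφ (u_mem_nonZeroDivisors 𝓕) hker p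
      rw [h1, h2, min_succ_iff]
      exact hG p
    · obtain ⟨f, h1, h2, -⟩ := off_u 𝓕 P hu
      rw [h1, h2]
      exact min_add_le (hA _)

end Groth.Agent.ExtReesLib
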